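import Cfsg.Agent.H214.S69.Defs
import Cfsg.Agent.H152.MeetOmega
import Cfsg.Agent.H513.MeetPSp

/-!
# Frames for S3469 (helper973, task 2096 of helper214)

* `exists_frame` : the generic step: a group `M` with a normal subgroup `S ≃ T`, `C_M(S) = 1`, where all automorphisms of
  `T = π(X)` are induced by a group `Γ` of permutations of `V`, is a quotient of a subgroup of `Γ` by the scalars;
* `exists_spFrame`, `exists_oFrame`.
-/

set_option autoImplicit false

universe u v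

namespace Cfsg.Agent.H973.Frames

open Cfsg Cfsg.Agent.H903.SylSemi Cfsg.Agent.H214.S69 Cfsg.Agent

section generic

variable {F : Type*} [Field F] {V : Type*} [AddCommGroup V] [Module F V] [Finite V] {T : Type*} [Group T]
  {X : Type*} [Group X] {M : Type*} [Group M]

/-- the action of `M` on `T` through `S` -/
noncomputable def bet (S : Subgroup M) [S.Normal] (e : ↥S ≃* T) : M →* MulAut T :=
  (MulAut.congr e).toMonoidHom.comp MulAut.conjNormal

theorem bet_apply (S : Subgroup M) [S.Normal] (e : ↥S ≃* T) (g : M) (s : S) :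
    bet S e g (e s) = e (MulAut.conjNormal g s) := by
  show e ((MulAut.conjNormal g) (e.symm (e s))) = _
  rw [MulEquiv.symm_apply_apply]

theorem bet_injective (S : Subgroup M) [S.Normal] (e : ↥S ≃* T) (hc : Subgroup.centralizer (S : Set M) = ⊥) :
    Function.Injective (bet S e) := by
  rw [injective_iff_map_eq_one]
  intro g hg
  have h1 : g ∈ Subgroup.centralizer (S : Set M) := by
    rw [Subgroup.mem_centralizer_iff]
    intro s hs
    have h2 := bet_apply S e g ⟨s, hs⟩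
    rw [hg] at h2
    have h3 := congrArg (Subtype.val) (e.injective h2)
    have h4 : s = g * s * g⁻¹ := h3
    calc s * g = (g * s * g⁻¹) * g := by rw [← h4]
      _ = g * s := by group
  rw [hc] at h1
  exact Subgroup.mem_bot.1 h1

theorem bet_mem (S : Subgroup M) [S.Normal] (e : ↥S ≃* T) (s : S) : bet S e s = MulAut.conj (e s) := by
  ext t
  obtain ⟨s', rfl⟩ := e.surjective t
  rw [bet_apply, MulAut.conj_apply, ← map_mul, ← map_inv, ← map_mul]
  congr 1

/-- **the generic step** -/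
theorem exists_frame [Finite T] {π : X →* T} (hπ : Function.Surjective π) {ρ : X →* Equiv.Perm V}
    (hρ : Function.Injective ρ) (Γ : Subgroup (Equiv.Perm V)) (hΓρ : ∀ s : X, ρ s ∈ Γ)
    (hΓscal : ∀ a : Fˣ, scal F V a ∈ Γ) (hρlin : ∀ s : X, Semi F (ρ s) (RingEquiv.refl F))
    (hex : ∀ β : MulAut T, ∃ y ∈ Γ, Ind π ρ y β)
    (huniq : ∀ y ∈ Γ, Ind π ρ y 1 → ∃ a : Fˣ, y = scal F V a)
    (S : Subgroup M) [S.Normal] (hc : Subgroup.centralizer (S : Set M) = ⊥) (e : ↥S ≃* T) :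
    ∃ (H : Subgroup (Equiv.Perm V)) (Φ : ↥H →* M), H ≤ Γ ∧ (∀ s : X, ρ s ∈ H) ∧ (∀ a : Fˣ, scal F V a ∈ H) ∧
      Function.Surjective Φ ∧ (∀ y : ↥H, Φ y = 1 ↔ ∃ a : Fˣ, (y : Equiv.Perm V) = scal F V a) ∧
      ∀ y : ↥H, Φ y ∈ S ↔ ∃ (a : Fˣ) (s : X), scal F V a * (y : Equiv.Perm V) = ρ s := by
  classical
  have hβ := bet_injective S e hc
  -- scalars induce the identity
  have hscal : ∀ a : Fˣ, Ind π ρ (scal F V a) 1 := by
    intro a s
    refine ⟨s, ?_, rfl⟩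
    rw [eq_mul_inv_iff_mul_eq]
    ext v
    simp only [Equiv.Perm.mul_apply, scal_apply]
    exact (hρlin s).2 _ _
  let H : Subgroup (Equiv.Perm V) :=
    { carrier := {y | y ∈ Γ ∧ ∃ g : M, Ind π ρ y (bet S e g)}
      mul_mem' := by
        rintro y y' ⟨h1, g, h2⟩ ⟨h1', g', h2'⟩
        exact ⟨Γ.mul_mem h1 h1', g * g', by rw [map_mul]; exact h2.mul h2'⟩
      one_mem' := ⟨Γ.one_mem, 1, by rw [map_one]; exact Ind.one π ρ⟩
      inv_mem' := by
        rintro y ⟨h1, g, h2⟩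
        exact ⟨Γ.inv_mem h1, g⁻¹, by rw [map_inv]; exact h2.inv⟩ }
  have hch : ∀ y : H, ∃ g : M, Ind π ρ (y : Equiv.Perm V) (bet S e g) := fun y => y.2.2
  choose f hf using hch
  have hfu : ∀ (y : H) (g : M), Ind π ρ (y : Equiv.Perm V) (bet S e g) → f y = g := fun y g hg =>
    hβ (Ind.unique hπ hρ (hf y) hg)
  let Φ : ↥H →* M :=
    { toFun := f
      map_one' := hfu 1 1 (by rw [map_one]; exact Ind.one π ρ)
      map_mul' := fun y y' => hfu (y * y') (f y * f y') (by rw [map_mul]; exact (hf y).mul (hf y')) }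
  have hΦ : ∀ (y : H) (g : M), Ind π ρ (y : Equiv.Perm V) (bet S e g) → Φ y = g := hfu
  have hΦ' : ∀ y : H, Ind π ρ (y : Equiv.Perm V) (bet S e (Φ y)) := hf
  have hρind : ∀ s : X, Ind π ρ (ρ s) (bet S e ((e.symm (π s) : S) : M)) := by
    intro s
    rw [bet_mem, MulEquiv.apply_symm_apply]
    exact Ind.conj π ρ s
  have hker : ∀ y : ↥H, Φ y = 1 ↔ ∃ a : Fˣ, (y : Equiv.Perm V) = scal F V a := by
    intro y
    constructor
    · intro h
      have h1 := hΦ' y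
      rw [h, map_one] at h1
      exact huniq _ y.2.1 h1
    · rintro ⟨a, ha⟩
      apply hΦ
      rw [ha, map_one]
      exact hscal a
  have hρH : ∀ s : X, ρ s ∈ H := fun s => ⟨hΓρ s, _, hρind s⟩
  have hsH : ∀ a : Fˣ, scal F V a ∈ H := fun a => ⟨hΓscal a, 1, by rw [map_one]; exact hscal a⟩
  refine ⟨H, Φ, fun y hy => hy.1, hρH, hsH, ?_, hker, ?_⟩
  · intro g
    obtain ⟨y, hy, hi⟩ := hex (bet S e g)
    exact ⟨⟨y, hy, g, hi⟩, hΦ _ _ hi⟩
  · intro y
    constructor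
    · intro h
      obtain ⟨s, hs⟩ := hπ (e ⟨Φ y, h⟩)
      have h1 : Φ ⟨ρ s, hρH s⟩ = Φ y := by
        apply hΦ
        have h2 := hρind s
        rw [hs, MulEquiv.symm_apply_apply] at h2
        exact h2
      have h2 : Φ (⟨ρ s, hρH s⟩ * y⁻¹) = 1 := by rw [map_mul, map_inv, h1, mul_inv_cancel]
      obtain ⟨a, ha⟩ := (hker _).1 h2
      refine ⟨a, s, ?_⟩
      rw [← ha]
      show ρ s * (y : Equiv.Perm V)⁻¹ * (y : Equiv.Perm V) = ρ s
      group
    · rintro ⟨a, s, h⟩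
      have h1 : y = (⟨scal F V a, hsH a⟩ : H)⁻¹ * ⟨ρ s, hρH s⟩ := by
        apply Subtype.ext
        show (y : Equiv.Perm V) = (scal F V a)⁻¹ * ρ s
        rw [← h]
        group
      have h2 : Φ ⟨scal F V a, hsH a⟩ = 1 := (hker _).2 ⟨a, rfl⟩
      have h3 : Φ ⟨ρ s, hρH s⟩ = ((e.symm (π s) : S) : M) := hΦ _ _ (hρind s)
      rw [h1, map_mul, map_inv, h2, inv_one, one_mul, h3]
      exact (e.symm (π s)).2

end generic

open Cfsg.Agent.ClassicalGeometry.SympAutSemi Cfsg.Agent.ClassicalGeometry.SympGamma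
open Cfsg.Agent.ClassicalGeometry in
/-- **the frame of an almost simple group with socle `PSp_{2n}(q)`** -/
theorem exists_spFrame {F : Type} [Field F] [Fintype F] (_ho : Odd (Fintype.card F)) {n : ℕ} (hn : 3 ≤ n)
    {M : Type u} [Group M] [Finite M] (S : Subgroup M) [S.Normal] (hc : Subgroup.centralizer (S : Set M) = ⊥)
    (e : ↥S ≃* PSp n F) : ∃ fr : SpFrame F n M, ∀ y : ↥fr.H, fr.Φ y ∈ S ↔ ∃ a : Fˣ, IsSpMap F n (H903.SylSemi.scal F _ a * y.1) := by
  have hfin : Finite (Cfsg.PSp n F) := by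
    unfold Cfsg.PSp
    infer_instance
  have hπ : Function.Surjective (QuotientGroup.mk' (Subgroup.center (Matrix.symplecticGroup (Fin n) F))) :=
    QuotientGroup.mk'_surjective _
  have hρY : ∀ s : Matrix.symplecticGroup (Fin n) F, rho n F s ∈ semiSim n F := fun s =>
    ⟨_, _, one_ne_zero, isSemi_rho s⟩
  have hsY : ∀ a : Fˣ, H903.SylSemi.scal F (Fin n ⊕ Fin n → F) a ∈ semiSim n F := fun a =>
    ⟨_, _, mul_ne_zero a.ne_zero a.ne_zero, isSemi_scal (m := n) a⟩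
  have hex : ∀ β : MulAut (Cfsg.PSp n F), ∃ y ∈ semiSim n F,
      Ind (QuotientGroup.mk' (Subgroup.center (Matrix.symplecticGroup (Fin n) F))) (rho n F) y β := by
    intro β
    have hB : ∀ α : MulAut (Cfsg.PSp n F), AutPSpCount.Pres α → α ∈ (Psi n F).range := by
      intro α hα
      obtain ⟨g, hg⟩ := SympAutExists.exists_semi (by omega) α hα
      exact ⟨g, hg⟩
    obtain ⟨g, rfl⟩ := hB _ (SympAutOddA.recog (by omega) (Or.inl hn) β)
    exact ⟨g, g.2, H513.MeetPSp.ind_Psi g⟩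
  have hu : ∀ y ∈ semiSim n F,
      Ind (QuotientGroup.mk' (Subgroup.center (Matrix.symplecticGroup (Fin n) F))) (rho n F) y 1 →
        ∃ a : Fˣ, y = H903.SylSemi.scal F (Fin n ⊕ Fin n → F) a := by
    intro y hy' hind
    have h1 : Psi n F ⟨y, hy'⟩ = 1 := Ind.unique hπ rho_injective (H513.MeetPSp.ind_Psi ⟨y, hy'⟩) hind
    obtain ⟨a, ha⟩ := exists_scal_of_Psi_eq_one (by omega) _ h1
    refine ⟨a, ?_⟩
    ext1 v
    exact DFunLike.congr_fun ha v
  obtain ⟨H, Φ, h1, h2, h3, h4, h5, h6⟩ := exists_frame (T := Cfsg.PSp n F) (F := F) hπ rho_injective (semiSim n F) hρY hsY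
    (fun s => ⟨(isSemi_rho s).1, (isSemi_rho s).2.1⟩) hex hu S hc e
  have hiff : ∀ y : Equiv.Perm (Fin n ⊕ Fin n → F), IsSpMap F n y ↔ ∃ s, y = rho n F s := by
    intro y
    constructor
    · rintro ⟨⟨h7, h8⟩, h9⟩
      obtain ⟨s, hs⟩ := exists_rho_eq y h7 h8 h9
      exact ⟨s, hs.symm⟩
    · rintro ⟨s, rfl⟩
      refine ⟨⟨(isSemi_rho s).1, (isSemi_rho s).2.1⟩, fun u v => ?_⟩
      have := (isSemi_rho s).2.2 u v
      rw [one_mul] at this
      exact this
  refine ⟨⟨H, fun y hy => (H513.MeetPSp.semiSp_iff y).2 (h1 hy), fun y hy => ?_, h3, Φ, h4, h5⟩, fun y => ?_⟩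
  · obtain ⟨s, rfl⟩ := (hiff y).1 hy
    exact h2 s
  · rw [h6 y]
    constructor
    · rintro ⟨a, s, h⟩
      exact ⟨a, (hiff _).2 ⟨s, h⟩⟩
    · rintro ⟨a, h⟩
      obtain ⟨s, hs⟩ := (hiff _).1 h
      exact ⟨a, s, hs⟩

open Cfsg.Agent.H152.MeetOmega in
/-- the orthogonal frame, for a good form -/
theorem exists_oFrame_of {F : Type} [Field F] [Finite F] {ι : Type} [Fintype ι] [DecidableEq ι]
    {Q : QuadraticForm F (ι → F)} (hex : ∀ β : MulAut (POmega F ⇑Q), ∃ y, SemiO F ⇑Q y ∧ H903.SylSemi.Ind (proj ⇑Q) (rho ⇑Q) y β)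
    (hu : ∀ y, SemiO F ⇑Q y → H903.SylSemi.Ind (proj ⇑Q) (rho ⇑Q) y 1 → ∃ a : Fˣ, y = H903.SylSemi.scal F (ι → F) a)
    {M : Type u} [Group M] [Finite M] (S : Subgroup M) [S.Normal] (hc : Subgroup.centralizer (S : Set M) = ⊥)
    (e : ↥S ≃* POmega F ⇑Q) :
    ∃ fr : OFrame F ⇑Q M, ∀ y : ↥fr.H, fr.Φ y ∈ S ↔
      ∃ a' : Fˣ, IsOmegaMap F ⇑Q (H903.SylSemi.scal F _ a' * y.1) := by
  have hfin : Finite (POmega F ⇑Q) := Finite.of_equiv _ e.toEquiv
  obtain ⟨H, Φ, h1, h2, h3, h4, h5, h6⟩ := exists_frame (T := POmega F ⇑Q) (F := F) (proj_surjective ⇑Q)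
    (rho_injective ⇑Q) (ClassicalGeometry.OrthSemi.Gam Q) (fun s => rho_mem_gam s)
    (fun a => (ClassicalGeometry.OrthSemi.scal Q a).2)
    (fun s => ⟨fun u v => by
      rw [H152.MeetOmega.rho_apply, H152.MeetOmega.rho_apply, H152.MeetOmega.rho_apply, Matrix.mulVec_add],
      fun a v => by rw [H152.MeetOmega.rho_apply, H152.MeetOmega.rho_apply, Matrix.mulVec_smul]; rfl⟩)
    (fun β => by
      obtain ⟨y, hy, hi⟩ := hex β
      exact ⟨y, mem_gam_iff.2 hy, hi⟩)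
    (fun y hy hi => hu y (mem_gam_iff.1 hy) hi) S hc e
  refine ⟨⟨H, fun y hy => mem_gam_iff.1 (h1 hy), fun y hy => ?_, h3, Φ, h4, h5⟩, fun y => ?_⟩
  · obtain ⟨s, hs⟩ := hy
    have h7 : y = rho ⇑Q s := Equiv.ext hs
    rw [h7]
    exact h2 s
  · rw [h6 y]
    constructor
    · rintro ⟨a, s, h⟩
      exact ⟨a, s, fun v => DFunLike.congr_fun h v⟩
    · rintro ⟨a, s, hs⟩
      exact ⟨a, s, Equiv.ext hs⟩

open Cfsg.Agent.H152.MeetOmega Cfsg.Agent.LieClassical.OrthCore Cfsg.Agent.LieClassical.OrthTrans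
  Cfsg.Agent.LieClassical.QuadForms Cfsg.Agent.AutOrth.Main Cfsg.Agent.H208.Dict in
/-- **the frame of an almost simple group with socle `PΩ⁻`** -/
theorem exists_oFrame {F : Type} [Field F] [Fintype F] {m : ℕ} (hm : 3 ≤ m) {a b : F} (hab : Aniso a b)
    {M : Type u} [Group M] [Finite M] (S : Subgroup M) [S.Normal] (hc : Subgroup.centralizer (S : Set M) = ⊥)
    (e : ↥S ≃* POmega F (quadFormMinus m F a b)) :
    ∃ fr : OFrame F (quadFormMinus m F a b) M, ∀ y : ↥fr.H, fr.Φ y ∈ S ↔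
      ∃ a' : Fˣ, IsOmegaMap F (quadFormMinus m F a b) (H903.SylSemi.scal F _ a' * y.1) := by
  have h1 : ∀ β : MulAut (POmega F (quadFormMinus m F a b)), ∃ y, SemiO F (quadFormMinus m F a b) y ∧
      H903.SylSemi.Ind (proj (quadFormMinus m F a b)) (rho (quadFormMinus m F a b)) y β :=
    fun β => gamma_minus hm hab β
  have h2 : ∀ y, SemiO F (quadFormMinus m F a b) y →
      H903.SylSemi.Ind (proj (quadFormMinus m F a b)) (rho (quadFormMinus m F a b)) y 1 →
      ∃ a' : Fˣ, y = H903.SylSemi.scal F _ a' := fun y hy hi => unique_minus (by omega) hab hy hi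
  revert e h1 h2
  rw [← coe_minusForm]
  intro e h1 h2
  exact exists_oFrame_of h1 h2 S hc e

end Cfsg.Agent.H973.Frames
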